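import Groth.Prelude.Def_Versch
import Groth.Prelude.Def_SGA3b
import Mathlib

set_option linter.unusedSectionVars false
set_option linter.unusedVariables false
set_option linter.unusedSimpArgs false
set_option autoImplicit false
set_option linter.style.haveILetI false
set_option maxHeartbeats 400000

/-!
# `F ∘ V = [p]` at ring level (helper6)

Dual basis expansion + `sum_pow_char` in the commutative convolution ring `WithConv (A →ₗ[R] A)`.
-/

universe u v

open TensorProduct

namespace Groth.Agent.Lib.Helper6.Versch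

section General

theorem sum_pow_of_prime_cast_eq_zero {E : Type*} [CommRing E] (p : ℕ) [hp : Fact p.Prime]
    (h : (p : E) = 0) {ι : Type*} (s : Finset ι) (f : ι → E) :
    (∑ i ∈ s, f i) ^ p = ∑ i ∈ s, f i ^ p := by
  rcases subsingleton_or_nontrivial E with hE | hE
  · exact Subsingleton.elim _ _
  · haveI : CharP E p := by
      have h1 := CharP.ringChar_of_prime_eq_zero hp.out h
      have h2 := ringChar.charP E
      rwa [h1] at h2
    exact sum_pow_char p s f

theorem exists_dualBasis (R : Type u) [CommRing R] (A : Type v) [AddCommGroup A] [Module R A]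
    [Module.Finite R A] [Module.Projective R A] :
    ∃ (n : ℕ) (e : Fin n → A) (f : Fin n → (A →ₗ[R] R)), ∀ a, ∑ i, f i a • e i = a := by
  classical
  obtain ⟨n, F, G, -, -, h⟩ := Module.Finite.exists_comp_eq_id_of_projective R A
  refine ⟨n, fun i => F (Pi.single i 1), fun i => LinearMap.proj i ∘ₗ G, fun a => ?_⟩
  have h1 : a = F (G a) := by rw [← LinearMap.comp_apply, h]; rfl
  conv_rhs => rw [h1]
  rw [LinearMap.pi_apply_eq_sum_univ F (G a)]
  refine Finset.sum_congr rfl fun i _ => ?_
  simp only [LinearMap.comp_apply, LinearMap.proj_apply]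
  congr 2
  ext j
  simp [Pi.single_apply, eq_comm]

end General

section Rank

variable (R : Type u) [CommRing R] (A : Type v) [CommRing A] [Bialgebra R A]

/-- rank-one map `a ↦ x a • b` in the convolution ring. -/
noncomputable def rk (x : CartDual.D R A) (b : A) : WithConv (A →ₗ[R] A) :=
  WithConv.toConv (LinearMap.smulRight x.ofConv b)

theorem rk_apply (x : CartDual.D R A) (b : A) (a : A) : rk R A x b a = x a • b := rfl

theorem mul'_map_smulRight (x y : CartDual.D R A) (b c : A) (t : A ⊗[R] A) :
    LinearMap.mul' R A (TensorProduct.map (LinearMap.smulRight x.ofConv b) (LinearMap.smulRight y.ofConv c) t) =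
      (LinearMap.mul' R R (TensorProduct.map x.ofConv y.ofConv t)) • (b * c) := by
  induction t using TensorProduct.induction_on with
  | zero => simp
  | add t t' ht ht' => simp only [map_add, ht, ht', add_smul]
  | tmul a a' =>
    simp only [TensorProduct.map_tmul, LinearMap.mul'_apply, LinearMap.smulRight_apply, smul_mul_smul_comm]

theorem rk_mul (x y : CartDual.D R A) (b c : A) : rk R A x b * rk R A y c = rk R A (x * y) (b * c) := by
  apply WithConv.ofConv_injective
  apply LinearMap.ext
  intro a
  change (rk R A x b * rk R A y c) a = rk R A (x * y) (b * c) a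
  rw [LinearMap.convMul_apply, rk_apply, LinearMap.convMul_apply]
  exact mul'_map_smulRight R A x y b c _

theorem rk_one : rk R A 1 1 = 1 := by
  apply WithConv.ofConv_injective
  apply LinearMap.ext
  intro a
  change rk R A 1 1 a = (1 : WithConv (A →ₗ[R] A)) a
  rw [rk_apply, LinearMap.convOne_apply, LinearMap.convOne_apply]
  simp [Algebra.algebraMap_eq_smul_one]

theorem rk_pow (x : CartDual.D R A) (b : A) (n : ℕ) : rk R A x b ^ n = rk R A (x ^ n) (b ^ n) := by
  induction n with
  | zero => simp [rk_one]
  | succ n ih => rw [pow_succ, ih, rk_mul, ← pow_succ, ← pow_succ]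

end Rank

section Main

variable (p : ℕ) [hp : Fact p.Prime] (R : Type u) [CommRing R] [CharP R p]
  (A : Type v) [CommRing A] [HopfAlgebra R A] [Coalgebra.IsCocomm R A]

theorem id_eq_sum_rk {n : ℕ} (e : Fin n → A) (f : Fin n → (A →ₗ[R] R))
    (h : ∀ a, ∑ i, f i a • e i = a) :
    WithConv.toConv (LinearMap.id : A →ₗ[R] A) = ∑ i, rk R A (WithConv.toConv (f i)) (e i) := by
  apply WithConv.ofConv_injective
  apply LinearMap.ext
  intro a
  rw [WithConv.ofConv_sum, LinearMap.sum_apply]
  change a = ∑ i, rk R A (WithConv.toConv (f i)) (e i) a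
  simp only [rk_apply]
  exact (h a).symm

theorem natCast_conv_eq_zero : ((p : ℕ) : WithConv (A →ₗ[R] A)) = 0 := by
  rw [← map_natCast (algebraMap R (WithConv (A →ₗ[R] A))) p, CharP.cast_eq_zero, map_zero]

theorem id_pow_p_apply {n : ℕ} (e : Fin n → A) (f : Fin n → (A →ₗ[R] R))
    (h : ∀ a, ∑ i, f i a • e i = a) (a : A) :
    ((WithConv.toConv (LinearMap.id : A →ₗ[R] A)) ^ p) a =
      ∑ i, (((WithConv.toConv (f i) : CartDual.D R A) ^ p) a) • (e i) ^ p := by
  rw [id_eq_sum_rk R A e f h, sum_pow_of_prime_cast_eq_zero p (natCast_conv_eq_zero p R A)]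
  simp only [rk_pow]
  change (∑ i, rk R A _ _).ofConv a = _
  rw [WithConv.ofConv_sum, LinearMap.sum_apply]
  rfl

variable [CharP A p]

theorem relFrob_tmul (a : A) (t : FrobAlg.Twist p R) :
    FrobAlg.relFrob p R A (a ⊗ₜ t) = a ^ p * algebraMap R A ((FrobAlg.toTwist p R).symm t) := by
  simp [FrobAlg.relFrob, FrobAlg.frobHom, FrobAlg.inclHom, Algebra.TensorProduct.lift_tmul]
  rfl

theorem baseChange_expand {n : ℕ} (e : Fin n → A) (f : Fin n → (A →ₗ[R] R))
    (h : ∀ a, ∑ i, f i a • e i = a) (z : FrobAlg.BaseChange p R A) :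
    z = ∑ i, e i ⊗ₜ[R] Versch.evTw p R A (WithConv.toConv (f i)) z := by
  induction z using TensorProduct.induction_on with
  | zero => simp
  | add z z' hz hz' =>
    simp only [map_add, TensorProduct.tmul_add, Finset.sum_add_distrib]
    rw [← hz, ← hz']
  | tmul a s =>
    conv_lhs => rw [← h a]
    rw [TensorProduct.sum_tmul]
    refine Finset.sum_congr rfl fun i _ => ?_
    rw [Versch.evTw_tmul, ← Algebra.smul_def, TensorProduct.smul_tmul]

variable [Module.Finite R A] [Module.Projective R A]

theorem relFrob_verschiebung_apply (v : A →+* FrobAlg.BaseChange p R A)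
    (hv : Versch.IsVerschiebung p R A v) (a : A) :
    FrobAlg.relFrob p R A (v a) = ((WithConv.toConv (LinearMap.id : A →ₗ[R] A)) ^ p) a := by
  obtain ⟨n, e, f, h⟩ := exists_dualBasis R A
  rw [id_pow_p_apply p R A e f h a, baseChange_expand p R A e f h (v a), map_sum]
  refine Finset.sum_congr rfl fun i _ => ?_
  rw [(Versch.isVerschiebung_iff p R A v).1 hv, relFrob_tmul, RingEquiv.symm_apply_apply,
    mul_comm, ← Algebra.smul_def]

end Main

section PowConv

variable (R : Type u) [CommRing R] (A : Type u) [CommRing A] [HopfAlgebra R A]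

theorem powConv_apply (n : ℕ) (a : A) :
    SGA3b.powConv R A n a = ((WithConv.toConv (LinearMap.id : A →ₗ[R] A)) ^ n) a := by
  have h := AlgHom.toLinearMap_convPow (WithConv.toConv (AlgHom.id R A)) n
  have h2 := congrArg (fun φ : WithConv (A →ₗ[R] A) => φ a) h
  exact h2

end PowConv

section Final

variable (p : ℕ) [hp : Fact p.Prime] (R : Type u) [CommRing R] [CharP R p]
  (A : Type u) [CommRing A] [HopfAlgebra R A] [Coalgebra.IsCocomm R A] [Module.Finite R A]
  [Module.Projective R A] [CharP A p]

theorem relFrob_comp_verschiebung (v : A →+* FrobAlg.BaseChange p R A)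
    (hv : Versch.IsVerschiebung p R A v) :
    (FrobAlg.relFrob p R A).comp v = (SGA3b.powConv R A p).toRingHom := by
  ext a
  change FrobAlg.relFrob p R A (v a) = SGA3b.powConv R A p a
  rw [relFrob_verschiebung_apply p R A v hv, powConv_apply]

end Final

end Groth.Agent.Lib.Helper6.Versch
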