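import Groth.Agent.Lib.Helper6.Versch.PowConv

set_option linter.unusedSectionVars false
set_option linter.unusedVariables false
set_option linter.unusedSimpArgs false
set_option autoImplicit false
set_option linter.style.haveILetI false
set_option maxHeartbeats 400000

/-!
# Base change of convolution powers; `V ∘ F = [p]` on the Frobenius twist (helper6)
-/

universe u v

open TensorProduct

namespace Groth.Agent.Lib.Helper6.Versch

section BC

variable (R : Type u) [CommRing R] (S : Type u) [CommRing S] [Algebra R S]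
  (A : Type u) [CommRing A] [HopfAlgebra R A]

/-- base change of an `R`-algebra endomorphism of `A` to `S ⊗[R] A`. -/
noncomputable def bc (f : A →ₐ[R] A) : S ⊗[R] A →ₐ[S] S ⊗[R] A :=
  Algebra.TensorProduct.map (AlgHom.id S S) f

theorem bc_tmul (f : A →ₐ[R] A) (s : S) (a : A) : bc R S A f (s ⊗ₜ a) = s ⊗ₜ f a := rfl

theorem lift_bc_tttc (f g : A →ₐ[R] A) (w : A ⊗[R] A) :
    Algebra.TensorProduct.lift (bc R S A f) (bc R S A g) (fun _ _ => Commute.all _ _)
      (TensorProduct.AlgebraTensorModule.tensorTensorTensorComm R S R S S S A A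
        (((1 : S) ⊗ₜ[S] (1 : S)) ⊗ₜ[R] w)) =
      (1 : S) ⊗ₜ[R] Algebra.TensorProduct.lift f g (fun _ _ => Commute.all _ _) w := by
  induction w using TensorProduct.induction_on with
  | zero => simp
  | add w w' hw hw' =>
    simp only [TensorProduct.tmul_add, map_add, hw, hw']
  | tmul a a' =>
    simp [bc_tmul]

theorem bc_convMul (f g : WithConv (A →ₐ[R] A)) :
    WithConv.toConv (bc R S A (f * g).ofConv) =
      WithConv.toConv (bc R S A f.ofConv) * WithConv.toConv (bc R S A g.ofConv) := by
  apply WithConv.ofConv_injective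
  apply Algebra.TensorProduct.ext_ring
  ext a
  change bc R S A (f * g).ofConv ((1 : S) ⊗ₜ a) =
    (WithConv.toConv (bc R S A f.ofConv) * WithConv.toConv (bc R S A g.ofConv)) ((1 : S) ⊗ₜ a)
  have hR : (WithConv.toConv (bc R S A f.ofConv) * WithConv.toConv (bc R S A g.ofConv)) ((1 : S) ⊗ₜ a) =
      Algebra.TensorProduct.lift (bc R S A f.ofConv) (bc R S A g.ofConv) (fun _ _ => Commute.all _ _)
        (Coalgebra.comul (R := S) ((1 : S) ⊗ₜ[R] a)) := AlgHom.convMul_apply _ _ _
  have h1 : Coalgebra.comul (R := S) (1 : S) = (1 : S) ⊗ₜ[S] (1 : S) := rfl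
  rw [bc_tmul, hR, AlgHom.convMul_apply f g a, TensorProduct.comul_tmul, h1, lift_bc_tttc]

theorem bc_convOne :
    WithConv.toConv (bc R S A (1 : WithConv (A →ₐ[R] A)).ofConv) = (1 : WithConv (S ⊗[R] A →ₐ[S] S ⊗[R] A)) := by
  apply WithConv.ofConv_injective
  apply Algebra.TensorProduct.ext_ring
  ext a
  change bc R S A (1 : WithConv (A →ₐ[R] A)).ofConv ((1 : S) ⊗ₜ a) =
    (1 : WithConv (S ⊗[R] A →ₐ[S] S ⊗[R] A)) ((1 : S) ⊗ₜ a)
  have h2 : (1 : WithConv (A →ₐ[R] A)).ofConv a = algebraMap R A (Coalgebra.counit (R := R) a) :=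
    AlgHom.convOne_apply a
  have h3 : (1 : WithConv (S ⊗[R] A →ₐ[S] S ⊗[R] A)) ((1 : S) ⊗ₜ a) =
      algebraMap S (S ⊗[R] A) (Coalgebra.counit (R := S) ((1 : S) ⊗ₜ[R] a)) := AlgHom.convOne_apply _
  rw [bc_tmul, h2, h3, TensorProduct.counit_tmul]
  have h1 : Coalgebra.counit (R := S) (1 : S) = (1 : S) := rfl
  rw [h1, Algebra.TensorProduct.algebraMap_apply, Algebra.algebraMap_eq_smul_one,
    Algebra.algebraMap_eq_smul_one, TensorProduct.tmul_smul, TensorProduct.smul_tmul']
  simp

theorem bc_convPow (f : WithConv (A →ₐ[R] A)) (n : ℕ) :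
    WithConv.toConv (bc R S A (f ^ n).ofConv) = (WithConv.toConv (bc R S A f.ofConv)) ^ n := by
  induction n with
  | zero => rw [pow_zero, pow_zero, bc_convOne]
  | succ n ih => rw [pow_succ, pow_succ, bc_convMul, ih]

theorem powConv_baseChange (n : ℕ) :
    SGA3b.powConv S (S ⊗[R] A) n = bc R S A (SGA3b.powConv R A n) := by
  have h := bc_convPow R S A (WithConv.toConv (AlgHom.id R A)) n
  have h3 : bc R S A (AlgHom.id R A) = AlgHom.id S (S ⊗[R] A) := by
    apply Algebra.TensorProduct.ext_ring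
    ext a
    rfl
  change _ = WithConv.toConv (bc R S A (AlgHom.id R A)) ^ n at h
  rw [h3] at h
  unfold SGA3b.powConv
  rw [← h]

end BC

section VF

theorem add_pow_of_prime_cast_eq_zero {E : Type*} [CommRing E] (p : ℕ) [hp : Fact p.Prime]
    (h : (p : E) = 0) (x y : E) : (x + y) ^ p = x ^ p + y ^ p := by
  rcases subsingleton_or_nontrivial E with hE | hE
  · exact Subsingleton.elim _ _
  · haveI : CharP E p := by
      have h1 := CharP.ringChar_of_prime_eq_zero hp.out h
      have h2 := ringChar.charP E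
      rwa [h1] at h2
    exact add_pow_char x y p

variable (p : ℕ) [hp : Fact p.Prime] (R : Type u) [CommRing R] [CharP R p]
  (A : Type u) [CommRing A] [HopfAlgebra R A] [Coalgebra.IsCocomm R A] [Module.Finite R A]
  [Module.Projective R A] [CharP A p]

theorem natCast_baseChange_eq_zero : ((p : ℕ) : FrobAlg.BaseChange p R A) = 0 := by
  rw [← map_natCast (algebraMap R (FrobAlg.BaseChange p R A)) p, CharP.cast_eq_zero, map_zero]

theorem pow_p_eq (z : FrobAlg.BaseChange p R A) :
    z ^ p = FrobAlg.relFrob p R A z ⊗ₜ[R] (1 : FrobAlg.Twist p R) := by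
  induction z using TensorProduct.induction_on with
  | zero => rw [zero_pow hp.out.ne_zero, map_zero, TensorProduct.zero_tmul]
  | add z z' hz hz' =>
    rw [add_pow_of_prime_cast_eq_zero p (natCast_baseChange_eq_zero p R A), hz, hz', map_add,
      TensorProduct.add_tmul]
  | tmul a s =>
    rw [Algebra.TensorProduct.tmul_pow, relFrob_tmul, mul_comm, ← Algebra.smul_def,
      TensorProduct.smul_tmul]
    congr 1
    rw [Algebra.smul_def, mul_one, FrobAlg.algebraMap_twist, map_pow, RingEquiv.apply_symm_apply]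

theorem dual_pow_apply_one (x : CartDual.D R A) (n : ℕ) : (x ^ n) 1 = (x 1) ^ n := by
  induction n with
  | zero =>
    rw [pow_zero, pow_zero]
    exact CartDual.counit_one' R A
  | succ n ih =>
    rw [pow_succ, pow_succ, ← ih]
    exact CartDual.counit_mul' R A (x ^ n) x

theorem verschiebung_algebraMap (v : A →+* FrobAlg.BaseChange p R A)
    (hv : Versch.IsVerschiebung p R A v) (r : R) :
    v (algebraMap R A r) = (1 : A) ⊗ₜ[R] FrobAlg.toTwist p R r := by
  apply Versch.evTw_injective p R A
  intro x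
  rw [(Versch.isVerschiebung_iff p R A v).1 hv, Versch.evTw_tmul, Algebra.algebraMap_eq_smul_one,
    map_smul, dual_pow_apply_one, FrobAlg.algebraMap_twist, smul_eq_mul, map_mul, map_pow, mul_comm]

theorem verschiebung_relFrob_tmul (v : A →+* FrobAlg.BaseChange p R A)
    (hv : Versch.IsVerschiebung p R A v) (a : A) (t : FrobAlg.Twist p R) :
    v (FrobAlg.relFrob p R A (a ⊗ₜ t)) = (SGA3b.powConv R A p a) ⊗ₜ[R] t := by
  rw [relFrob_tmul, map_mul, map_pow, verschiebung_algebraMap p R A v hv, pow_p_eq,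
    relFrob_verschiebung_apply p R A v hv, ← powConv_apply, Algebra.TensorProduct.tmul_mul_tmul,
    mul_one, one_mul, RingEquiv.apply_symm_apply]

theorem verschiebung_comp_relFrob (v : A →+* FrobAlg.BaseChange p R A)
    (hv : Versch.IsVerschiebung p R A v) :
    ((Algebra.TensorProduct.comm R A (FrobAlg.Twist p R)).toRingEquiv.toRingHom.comp
        ((v.comp (FrobAlg.relFrob p R A)).comp
          (Algebra.TensorProduct.comm R A (FrobAlg.Twist p R)).symm.toRingEquiv.toRingHom)) =
      (SGA3b.powConv (FrobAlg.Twist p R) (FrobAlg.Twist p R ⊗[R] A) p).toRingHom := by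
  rw [powConv_baseChange]
  apply RingHom.ext
  intro z
  induction z using TensorProduct.induction_on with
  | zero => rw [map_zero, map_zero]
  | add z z' hz hz' => rw [map_add, map_add, hz, hz']
  | tmul t a =>
    change (Algebra.TensorProduct.comm R A (FrobAlg.Twist p R))
      (v (FrobAlg.relFrob p R A ((Algebra.TensorProduct.comm R A (FrobAlg.Twist p R)).symm (t ⊗ₜ a)))) =
      bc R (FrobAlg.Twist p R) A (SGA3b.powConv R A p) (t ⊗ₜ a)
    rw [bc_tmul]
    have h1 : (Algebra.TensorProduct.comm R A (FrobAlg.Twist p R)).symm (t ⊗ₜ a) = a ⊗ₜ t := rfl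
    rw [h1, verschiebung_relFrob_tmul p R A v hv]
    rfl

end VF

end Groth.Agent.Lib.Helper6.Versch
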