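import Groth.Agent.Lib.Helper6.Versch.EtaleInj
import Groth.Agent.Lib.Helper6.Versch.VF

set_option linter.unusedSectionVars false
set_option linter.unusedVariables false
set_option linter.unusedSimpArgs false
set_option autoImplicit false
set_option linter.style.haveILetI false
set_option maxHeartbeats 400000

/-!
# Coordinates on Frobenius twists over a field; Verschiebung ↔ relative Frobenius of the dual (helper6)
-/

universe u v w

open TensorProduct

namespace Groth.Agent.Lib.Helper6.Versch.Coord

section CoordT

variable (p : ℕ) [hp : Fact p.Prime] (k : Type u) [Field k] [CharP k p]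
  {X : Type w} [AddCommGroup X] [Module k X] {n : ℕ} (b : Module.Basis (Fin n) k X)

/-- coordinates (in `k`, through the identity of underlying rings) of an element of `X ⊗ Twist`. -/
noncomputable def coordT (z : X ⊗[k] FrobAlg.Twist p k) : Fin n → k :=
  fun i => (FrobAlg.toTwist p k).symm
    (TensorProduct.lid k (FrobAlg.Twist p k) (LinearMap.rTensor (FrobAlg.Twist p k) (b.coord i) z))

theorem coordT_tmul (x : X) (t : FrobAlg.Twist p k) (i : Fin n) :
    coordT p k b (x ⊗ₜ t) i = (b.repr x i) ^ p * (FrobAlg.toTwist p k).symm t := by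
  unfold coordT
  rw [LinearMap.rTensor_tmul, TensorProduct.lid_tmul, Algebra.smul_def, FrobAlg.algebraMap_twist,
    map_mul, RingEquiv.symm_apply_apply]
  rfl

theorem coordT_add (z z' : X ⊗[k] FrobAlg.Twist p k) :
    coordT p k b (z + z') = coordT p k b z + coordT p k b z' := by
  funext i
  simp only [coordT, map_add, Pi.add_apply]

theorem coordT_zero : coordT p k b (0 : X ⊗[k] FrobAlg.Twist p k) = 0 := by
  funext i
  simp only [coordT, map_zero, Pi.zero_apply]

theorem coordT_sum {ι : Type*} (s : Finset ι) (f : ι → X ⊗[k] FrobAlg.Twist p k) :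
    coordT p k b (∑ j ∈ s, f j) = ∑ j ∈ s, coordT p k b (f j) := by
  classical
  induction s using Finset.induction_on with
  | empty => simp [coordT_zero]
  | insert a s ha ih => rw [Finset.sum_insert ha, Finset.sum_insert ha, coordT_add, ih]

theorem expand (z : X ⊗[k] FrobAlg.Twist p k) :
    z = ∑ i, b i ⊗ₜ[k] FrobAlg.toTwist p k (coordT p k b z i) := by
  induction z using TensorProduct.induction_on with
  | zero => simp [coordT_zero]
  | add z z' hz hz' =>
    simp only [coordT_add, Pi.add_apply, map_add, TensorProduct.tmul_add, Finset.sum_add_distrib]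
    rw [← hz, ← hz']
  | tmul x t =>
    conv_lhs => rw [← b.sum_repr x]
    rw [TensorProduct.sum_tmul]
    refine Finset.sum_congr rfl fun i _ => ?_
    rw [coordT_tmul, TensorProduct.smul_tmul, Algebra.smul_def, FrobAlg.algebraMap_twist, map_mul,
      RingEquiv.apply_symm_apply]

theorem coordT_bijective : Function.Bijective (coordT p k b) := by
  classical
  constructor
  · intro z z' h
    rw [expand p k b z, expand p k b z', h]
  · intro r
    refine ⟨∑ j, b j ⊗ₜ[k] FrobAlg.toTwist p k (r j), ?_⟩
    funext i
    rw [coordT_sum, Finset.sum_apply]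
    simp only [coordT_tmul, RingEquiv.symm_apply_apply, Module.Basis.repr_self]
    rw [Finset.sum_eq_single i]
    · simp
    · intro j _ hj
      rw [Finsupp.single_eq_of_ne hj.symm, zero_pow hp.out.ne_zero, zero_mul]
    · intro h; exact absurd (Finset.mem_univ i) h

end CoordT

section Hopf

variable (p : ℕ) [hp : Fact p.Prime] (k : Type u) [Field k] [CharP k p]
  (A : Type v) [CommRing A] [HopfAlgebra k A] [Coalgebra.IsCocomm k A] [FiniteDimensional k A]
  {n : ℕ} (b : Module.Basis (Fin n) k A)

/-- dual basis vectors as elements of the dual Hopf algebra -/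
noncomputable def β (i : Fin n) : CartDual.D k A := WithConv.toConv (b.coord i)

theorem β_apply (i : Fin n) (a : A) : β k A b i a = b.repr a i := rfl

/-- the basis of the dual Hopf algebra dual to `b` -/
noncomputable def βD : Module.Basis (Fin n) k (CartDual.D k A) :=
  b.dualBasis.map (CartDual.toDual k A).symm

theorem βD_apply (i : Fin n) : βD k A b i = β k A b i := by
  unfold βD β
  rw [Module.Basis.map_apply, Module.Basis.coe_dualBasis]
  rfl

theorem βD_repr (x : CartDual.D k A) (j : Fin n) : (βD k A b).repr x j = x (b j) := by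
  unfold βD
  rw [Module.Basis.map_repr, LinearEquiv.trans_apply, LinearEquiv.symm_symm, Module.Basis.dualBasis_repr]
  rfl

/-- the matrix of `p`-th powers -/
noncomputable def M : Matrix (Fin n) (Fin n) k := fun i j => ((β k A b i) ^ p) (b j)

theorem evTw_eq (x : CartDual.D k A) (z : FrobAlg.BaseChange p k A) :
    Versch.evTw p k A x z =
      TensorProduct.lid k (FrobAlg.Twist p k) (LinearMap.rTensor (FrobAlg.Twist p k) x.ofConv z) := by
  induction z using TensorProduct.induction_on with
  | zero => simp
  | add z z' hz hz' => simp only [map_add, hz, hz']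
  | tmul a s =>
    rw [Versch.evTw_tmul, LinearMap.rTensor_tmul, TensorProduct.lid_tmul, Algebra.smul_def]

theorem evTw_β (i : Fin n) (z : FrobAlg.BaseChange p k A) :
    Versch.evTw p k A (β k A b i) z = FrobAlg.toTwist p k (coordT p k b z i) := by
  rw [evTw_eq]
  unfold coordT
  rw [RingEquiv.apply_symm_apply]
  rfl

theorem pow_apply_eq (x : CartDual.D k A) (a : A) :
    x a = ∑ j, b.repr a j * x (b j) := by
  conv_lhs => rw [← b.sum_repr a]
  rw [CartDual.coe_apply, map_sum]
  refine Finset.sum_congr rfl fun j _ => ?_
  rw [map_smul, smul_eq_mul]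

theorem coordT_verschiebung (v : A →+* FrobAlg.BaseChange p k A)
    (hv : Versch.IsVerschiebung p k A v) (a : A) :
    coordT p k b (v a) = (M p k A b).mulVec (b.repr a) := by
  funext i
  have h1 := (Versch.isVerschiebung_iff p k A v).1 hv a (β k A b i)
  rw [evTw_β] at h1
  have h2 := (FrobAlg.toTwist p k).injective h1
  rw [h2, pow_apply_eq k A b _ a]
  unfold Matrix.mulVec dotProduct M
  refine Finset.sum_congr rfl fun j _ => ?_
  rw [mul_comm]

theorem natCast_dual_eq_zero : ((p : ℕ) : CartDual.D k A) = 0 := by
  rw [← map_natCast (algebraMap k (CartDual.D k A)) p, CharP.cast_eq_zero, map_zero]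

theorem dual_pow_p (x : CartDual.D k A) :
    x ^ p = ∑ i, (x (b i)) ^ p • (β k A b i) ^ p := by
  conv_lhs => rw [← (βD k A b).sum_repr x]
  rw [sum_pow_of_prime_cast_eq_zero p (natCast_dual_eq_zero p k A)]
  refine Finset.sum_congr rfl fun i _ => ?_
  rw [smul_pow, βD_repr, βD_apply]

theorem relFrob_dual_apply (w : FrobAlg.BaseChange p k (CartDual.D k A)) (j : Fin n) :
    (FrobAlg.relFrob p k (CartDual.D k A) w) (b j) =
      Matrix.vecMul (coordT p k (βD k A b) w) (M p k A b) j := by
  induction w using TensorProduct.induction_on with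
  | zero =>
    rw [map_zero, coordT_zero, Matrix.zero_vecMul]
    rfl
  | add w w' hw hw' =>
    rw [map_add, coordT_add, Matrix.add_vecMul, Pi.add_apply, ← hw, ← hw']
    rfl
  | tmul x t =>
    rw [Versch.relFrob_dual_tmul_apply, dual_pow_p p k A b x]
    unfold Matrix.vecMul dotProduct M
    rw [CartDual.coe_apply, WithConv.ofConv_sum, LinearMap.sum_apply, Finset.mul_sum]
    refine Finset.sum_congr rfl fun i _ => ?_
    rw [coordT_tmul, βD_repr, WithConv.ofConv_smul, LinearMap.smul_apply, smul_eq_mul]
    rw [← CartDual.coe_apply]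
    ring

theorem bijective_verschiebung_iff (v : A →+* FrobAlg.BaseChange p k A)
    (hv : Versch.IsVerschiebung p k A v) : Function.Bijective v ↔ IsUnit (M p k A b) := by
  have h1 : (coordT p k b) ∘ v = (M p k A b).mulVec ∘ b.equivFun := by
    funext a
    exact coordT_verschiebung p k A b v hv a
  rw [← Function.Bijective.of_comp_iff' (coordT_bijective p k b) v, h1,
    Function.Bijective.of_comp_iff _ b.equivFun.bijective]
  constructor
  · intro h
    exact Matrix.mulVec_surjective_iff_isUnit.1 h.2
  · intro h
    exact ⟨Matrix.mulVec_injective_iff_isUnit.2 h, Matrix.mulVec_surjective_iff_isUnit.2 h⟩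

theorem relFrob_dual_comp :
    (βD k A b).equivFun ∘ (FrobAlg.relFrob p k (CartDual.D k A)) =
      (fun r => Matrix.vecMul r (M p k A b)) ∘ (coordT p k (βD k A b)) := by
  funext w j
  change (βD k A b).repr (FrobAlg.relFrob p k (CartDual.D k A) w) j = _
  rw [βD_repr]
  exact relFrob_dual_apply p k A b w j

theorem injective_relFrob_dual_iff :
    Function.Injective (FrobAlg.relFrob p k (CartDual.D k A)) ↔ IsUnit (M p k A b) := by
  rw [← Function.Injective.of_comp_iff (βD k A b).equivFun.injective, relFrob_dual_comp,
    Function.Injective.of_comp_iff' _ (coordT_bijective p k (βD k A b))]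
  exact Matrix.vecMul_injective_iff_isUnit

theorem bijective_relFrob_dual_iff :
    Function.Bijective (FrobAlg.relFrob p k (CartDual.D k A)) ↔ IsUnit (M p k A b) := by
  rw [← Function.Bijective.of_comp_iff' (βD k A b).equivFun.bijective, relFrob_dual_comp,
    Function.Bijective.of_comp_iff _ (coordT_bijective p k (βD k A b))]
  constructor
  · intro h
    exact Matrix.vecMul_surjective_iff_isUnit.1 h.2
  · intro h
    exact ⟨Matrix.vecMul_injective_iff_isUnit.2 h, Matrix.vecMul_surjective_iff_isUnit.2 h⟩

theorem etale_dual_iff_bijective_verschiebung (v : A →+* FrobAlg.BaseChange p k A)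
    (hv : Versch.IsVerschiebung p k A v) :
    Algebra.Etale k (CartDual.D k A) ↔ Function.Bijective v := by
  classical
  let b := Module.finBasis k A
  rw [bijective_verschiebung_iff p k A b v hv]
  constructor
  · intro h
    exact (injective_relFrob_dual_iff p k A b).1 (EI.relFrob_injective_of_etale p k (CartDual.D k A))
  · intro h
    have h1 := (bijective_relFrob_dual_iff p k A b).2 h
    have h2 := RFE.formallyEtale_of_bijective_relFrob p k (CartDual.D k A) h1
    have h3 : Algebra.FinitePresentation k (CartDual.D k A) :=
      Algebra.FinitePresentation.of_finiteType.1 inferInstance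
    exact ⟨h2, h3⟩

end Hopf

end Groth.Agent.Lib.Helper6.Versch.Coord
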