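import Groth.Agent.Lib.Helper6.Versch.RelFrobEtale

set_option linter.unusedSectionVars false
set_option linter.unusedVariables false
set_option linter.unusedSimpArgs false
set_option autoImplicit false
set_option linter.style.haveILetI false
set_option maxHeartbeats 400000

/-!
# Étale over a field of char p ⇒ relative Frobenius injective (helper6)
-/

universe u v w

open TensorProduct

namespace Groth.Agent.Lib.Helper6.Versch.EI

/-- A field `k` of char `p` regarded as a `k`-algebra through Frobenius, with a `Field` instance. -/
def Kp (p : ℕ) (k : Type u) : Type u := k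

section
variable (p : ℕ) [hp : Fact p.Prime] (k : Type u) [Field k] [CharP k p]

instance : Field (Kp p k) := inferInstanceAs (Field k)

instance : Algebra k (Kp p k) := (frobenius k p).toAlgebra

/-- the identity `Twist p k → Kp p k` as a `k`-algebra isomorphism -/
noncomputable def twistEquiv : FrobAlg.Twist p k ≃ₐ[k] Kp p k :=
  AlgEquiv.ofRingEquiv (f := (FrobAlg.toTwist p k).symm) (fun r => rfl)

variable (B : Type v) [CommRing B] [Algebra k B]

theorem isReduced_baseChange [Algebra.Etale k B] : IsReduced (FrobAlg.BaseChange p k B) := by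
  haveI : IsReduced (Kp p k ⊗[k] B) :=
    Algebra.FormallyUnramified.isReduced_of_field (Kp p k) (Kp p k ⊗[k] B)
  let e : FrobAlg.BaseChange p k B ≃ₐ[k] Kp p k ⊗[k] B :=
    (Algebra.TensorProduct.congr AlgEquiv.refl (twistEquiv p k)).trans
      (Algebra.TensorProduct.comm k B (Kp p k))
  exact isReduced_of_injective e.toRingEquiv.toRingHom e.injective

variable [CharP B p]

theorem natCast_baseChange_eq_zero : ((p : ℕ) : FrobAlg.BaseChange p k B) = 0 := by
  rw [← map_natCast (algebraMap k (FrobAlg.BaseChange p k B)) p, CharP.cast_eq_zero, map_zero]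

theorem pow_p_eq (z : FrobAlg.BaseChange p k B) :
    z ^ p = FrobAlg.relFrob p k B z ⊗ₜ[k] (1 : FrobAlg.Twist p k) := by
  induction z using TensorProduct.induction_on with
  | zero => rw [zero_pow hp.out.ne_zero, map_zero, TensorProduct.zero_tmul]
  | add z z' hz hz' =>
    rw [RFE.add_pow_p p (natCast_baseChange_eq_zero p k B), hz, hz', map_add,
      TensorProduct.add_tmul]
  | tmul a s =>
    rw [Algebra.TensorProduct.tmul_pow, RFE.relFrob_tmul, mul_comm, ← Algebra.smul_def,
      TensorProduct.smul_tmul]
    congr 1
    rw [Algebra.smul_def, mul_one, FrobAlg.algebraMap_twist, map_pow, RingEquiv.apply_symm_apply]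

theorem relFrob_injective_of_etale [Algebra.Etale k B] :
    Function.Injective (FrobAlg.relFrob p k B) := by
  haveI := isReduced_baseChange p k B
  rw [injective_iff_map_eq_zero]
  intro z hz
  have h1 := pow_p_eq p k B z
  rw [hz, TensorProduct.zero_tmul] at h1
  exact IsReduced.eq_zero z ⟨p, h1⟩

end

end Groth.Agent.Lib.Helper6.Versch.EI
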